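import Cfsg.Agent.SP.Pos.D.J4Data

/-! # S5755, the row of `J₄`: kernel checks, second level -/

set_option autoImplicit false

namespace Cfsg.Agent.SP.PosD.Janko

theorem lb0_ok : lv2B Sm lb0 = true := by decide +kernel
theorem lb1_ok : lv2B Sm lb1 = true := by decide +kernel
theorem lb2_ok : lv2B Sm lb2 = true := by decide +kernel
theorem lb3_ok : lv2B Sm lb3 = true := by decide +kernel
theorem lb4_ok : lv2B Sm lb4 = true := by decide +kernel
theorem lb5_ok : lv2B Sm lb5 = true := by decide +kernel
theorem lb6_ok : lv2B Sm lb6 = true := by decide +kernel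
theorem lb7_ok : lv2B Sm lb7 = true := by decide +kernel
theorem lb8_ok : lv2B Sm lb8 = true := by decide +kernel

end Cfsg.Agent.SP.PosD.Janko
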