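import Cfsg.Agent.SP.Pos.D.LyData

/-! # S5755, the row of `Ly`: kernel checks, first level -/

set_option autoImplicit false

namespace Cfsg.Agent.SP.PosD.Lyons

theorem la0_ok : ctx (fun r s => lv1B r s Sm wsb (bw 0) ga0 ta0 ra0) = true := by decide +kernel
theorem la1_ok : ctx (fun r s => lv1B r s Sm wsb (bw 1) ga1 ta1 ra1) = true := by decide +kernel
theorem la2_ok : ctx (fun r s => lv1B r s Sm wsb (bw 2) ga2 ta2 ra2) = true := by decide +kernel
theorem la3_ok : ctx (fun r s => lv1B r s Sm wsb (bw 3) ga3 ta3 ra3) = true := by decide +kernel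
theorem la4_ok : ctx (fun r s => lv1B r s Sm wsb (bw 4) ga4 ta4 ra4) = true := by decide +kernel

end Cfsg.Agent.SP.PosD.Lyons
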