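import Cfsg.Agent.SP.Pos.D.LyData

/-! # S5755, the row of `Ly`: kernel checks, second level -/

set_option autoImplicit false

namespace Cfsg.Agent.SP.PosD.Lyons

theorem clos_ok : ctx (fun _ s => closB s Sm) = true := by decide +kernel
theorem lb0_ok : ctx (fun r s => lv2B r s Sm wb0 gb0 tb0 rb0) = true := by decide +kernel
theorem lb1_ok : ctx (fun r s => lv2B r s Sm wb1 gb1 tb1 rb1) = true := by decide +kernel
theorem lb2_ok : ctx (fun r s => lv2B r s Sm wb2 gb2 tb2 rb2) = true := by decide +kernel
theorem lb3_ok : ctx (fun r s => lv2B r s Sm wb3 gb3 tb3 rb3) = true := by decide +kernel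

end Cfsg.Agent.SP.PosD.Lyons
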